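import Groth.Agent.ResolveX.ExtendRat
import Groth.Agent.ResolveX.DedekindContract
import Groth.Agent.BlowCoh.PnPoint
import Groth.Agent.FibDimOne.ModifR1
import Groth.Agent.CplFib6.QuotReg
import Groth.Agent.ExtShX.Basic
import Groth.Agent.S8855
import Groth.Agent.S7338
import Groth.Prelude.Def_Curv2

/-!
# Regular two-dimensional local rings define rational singularities
-/

set_option autoImplicit false
set_option linter.style.haveILetI false
set_option linter.unusedSectionVars false
set_option backward.isDefEq.respectTransparency false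
set_option backward.isDefEq.respectTransparency.types false
set_option maxHeartbeats 1000000

universe u

open CategoryTheory CategoryTheory.Limits AlgebraicGeometry TopologicalSpace IsLocalRing Opposite

noncomputable section

namespace Groth.Agent.RatReg

open Groth.Agent

/-- Higher direct images of the structure sheaf vanish for blow-ups with good local equations. -/
theorem isZero_Rpush_of_hasGood {X Y : Scheme.{u}} {σ : X ⟶ Y} [IsProper σ] {I : Y.IdealSheafData} {d : ℕ}
    (hI : BlowCoh.HasGood I d) (hσ : BlowUp.IsBlowUp σ I) (hd : 0 < d) [HasInjectiveResolutions X.Modules]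
    (q : ℕ) (y : Y) :
    Subsingleton (((Coh.Rpush σ (q + 1)).obj (Coh.structureModule X)).presheaf.stalk y) := by
  haveI : Nonempty (Fin d) := ⟨⟨0, hd⟩⟩
  refine subsingleton_of_forall_eq 0 fun m => ?_
  obtain ⟨U, hyU, s, rfl⟩ := TopCat.Presheaf.exists_germ_eq ((Coh.Rpush σ (q + 1)).obj (Coh.structureModule X)).presheaf m
  obtain ⟨W, hyW, hWU, ⟨G⟩⟩ := hI U y hyU
  haveI := G.noeth
  obtain ⟨Cd⟩ := BlowCoh.exists_chartsU G hσ
  letI := QCoh.modHH (QCoh.rhoV σ W.1) ((Coh.structureModule X).restrict (σ ⁻¹ᵁ W.1).ι) (q + 1)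
  obtain ⟨l⟩ := QCoh.nonempty_sections_HH (f := σ) (QCoh.isQCoh_structureModule (X := X)) W.2 (q + 1)
  haveI : Subsingleton (Coh.HH (σ ⁻¹ᵁ W.1).toScheme ((Coh.structureModule X).restrict (σ ⁻¹ᵁ W.1).ι) (q + 1)) :=
    QCoh.subsingleton_HH_of_iso (Scheme.Modules.restrictUnitIso (σ ⁻¹ᵁ W.1).ι).symm (q + 1)
      (BlowCoh.subsingleton_HH (BlowCoh.embO Cd G.regular (BlowCoh.isEff_excU G hσ)) (BlowCoh.isEff_excU G hσ)
        G.regular G.quasi (by omega) QCoh.isQCoh_structureModule q)
  haveI : Subsingleton Γ((Coh.Rpush σ (q + 1)).obj (Coh.structureModule X), W.1) := l.toEquiv.subsingleton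
  rw [← InvX.germ_res' hWU hyW s, Subsingleton.elim (AModX.res _ hWU s) 0, map_zero]

/-- A closed point of a regular surface is cut out by good local equations. -/
theorem exists_hasGood_point {Z : Scheme.{u}} [IsIntegral Z] [IsLocallyNoetherian Z]
    (hZ : ∀ z : Z, IsRegularLocalRing (Z.presheaf.stalk z)) (y : Z) (hy : IsClosed ({y} : Set Z))
    (hne : genericPoint Z ≠ y) :
    ∃ d : ℕ, 0 < d ∧ BlowCoh.HasGood (Scheme.IdealSheafData.vanishingIdeal ⟨{y}, hy⟩) d := by
  let i := Z.fromSpecResidueField y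
  haveI : IsClosedImmersion i :=
    IsClosedImmersion.of_isPreimmersion _ (by rw [Scheme.range_fromSpecResidueField]; exact hy)
  obtain ⟨-, h⟩ := S8855.result i hZ fun p => by
    haveI := S0564.result (Z.residueField y) p.asIdeal
    exact IsRegularLocalRing.of_ringEquiv (StructureSheaf.stalkIso (Z.residueField y) p).toRingEquiv
  obtain ⟨U, hzU, hci, rs, hseq, hker⟩ := h (IsLocalRing.closedPoint (Z.residueField y))
  have hk : i.ker = Scheme.IdealSheafData.vanishingIdeal ⟨{y}, hy⟩ := CurveDiv.ker_fromSpecResidueField y hy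
  have hiy : i (IsLocalRing.closedPoint (Z.residueField y)) = y := Scheme.fromSpecResidueField_apply _ _
  have hd : 0 < rs.length := by
    by_contra h0
    obtain rfl : rs = [] := List.eq_nil_of_length_eq_zero (by omega)
    have hbot : i.ker.ideal U = ⊥ := by rw [Scheme.Hom.ker_apply, hker, Ideal.ofList_nil]
    have hηU : genericPoint Z ∈ U.1 := ((genericPoint_spec Z).specializes (Set.mem_univ _)).mem_open U.1.2 hzU
    have h1 := Scheme.IdealSheafData.coe_support_inter i.ker U
    rw [hbot, hk, Scheme.IdealSheafData.coe_support_vanishingIdeal] at h1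
    have h2 : genericPoint Z ∈ ({y} : Set Z) ∩ U.1 := by
      refine h1.ge ?_
      refine ⟨(Z.mem_zeroLocus_iff _ _).2 fun f hf => ?_, hηU⟩
      rw [show f = 0 from Ideal.mem_bot.1 hf, Scheme.basicOpen_zero]
      exact id
    exact hne h2.1
  refine ⟨rs.length, hd, ?_⟩
  rw [← hk]
  refine BlowCoh.hasGood_of_regularImmersion i (k := .regular) (Or.inl rfl) hd ⟨inferInstance, fun z => ?_⟩
  obtain rfl : z = IsLocalRing.closedPoint (Z.residueField y) := Subsingleton.elim (α := PrimeSpectrum (Z.residueField y)) _ _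
  exact ⟨U, hzU, hci, rs, rfl, hseq, hker⟩

variable {A : Type u} [CommRing A] [IsRegularLocalRing A]

/-- The regular local rings of the spectrum of a regular local ring. -/
theorem isRegular_stalk_spec (p : Spec (CommRingCat.of A)) :
    IsRegularLocalRing ((Spec (CommRingCat.of A)).presheaf.stalk p) := by
  haveI := CplFib6.isRegularRing_of_local A
  haveI := IsRegularRing.isRegularLocalRing_localization (R := A) p.asIdeal
  exact IsRegularLocalRing.of_ringEquiv (StructureSheaf.stalkIso A p).toRingEquiv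

/-- Sequences of point blow-ups of a regular local surface have no first cohomology. -/
theorem subsingleton_H1_of_contractionSeq (hdim : ringKrullDim A = 2) {Z X : Scheme.{u}} {r : Z ⟶ X}
    (hr : Models.IsContractionSeq r) (e : X ≅ Spec (CommRingCat.of A)) :
    Subsingleton (Coh.HH Z (Coh.structureModule Z) 1) := by
  haveI := RegLoc6.isDomain_of_isRegularLocalRing A
  haveI : UniqueFactorizationMonoid A := (S2821.result A).2
  haveI : IsIntegrallyClosed A := inferInstance
  induction hr with
  | @iso Z X e' =>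
    haveI : IsAffine X := .of_isIso e.hom
    haveI : IsAffine Z := .of_isIso e'.hom
    exact QCoh.subsingleton_HH_of_isAffine QCoh.isQCoh_structureModule 0
  | @step Y Z X E ι b r hι hE hb hr ih =>
    have h1 := ih e
    have hseq : Models.IsContractionSeq (b ≫ r) := Models.IsContractionSeq.step ι b r hι hE hb hr
    haveI : Nonempty X := ⟨e.inv (IsLocalRing.closedPoint A)⟩
    haveI : IsIntegral X := isIntegral_of_isOpenImmersion e.hom
    haveI : IsNoetherian X :=
      { toIsLocallyNoetherian := LocallyOfFiniteType.isLocallyNoetherian e.hom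
        toCompactSpace := QuasiCompact.compactSpace_of_compactSpace e.hom }
    have hX : ∀ x : X, IsRegularLocalRing (X.presheaf.stalk x) := fun x => by
      haveI := isRegular_stalk_spec (A := A) (e.hom x)
      exact IsRegularLocalRing.of_ringEquiv (asIso (e.hom.stalkMap x)).commRingCatIsoToRingEquiv
    obtain ⟨hYi, hYn, hYr, hYp, V', hV', hYV⟩ := ResolveX.contractionSeq_props hseq hX
    obtain ⟨hZi, hZn, hZr, hZp, V, hV, hZV⟩ := ResolveX.contractionSeq_props hr hX
    haveI := hYi; haveI := hYn; haveI := hYp; haveI := hZi; haveI := hZn; haveI := hZp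
    letI : Z.Over (Spec (CommRingCat.of A)) := ⟨r ≫ e.hom⟩
    letI : Y.Over (Spec (CommRingCat.of A)) := ⟨(b ≫ r) ≫ e.hom⟩
    haveI : IsProper (Z ↘ Spec (CommRingCat.of A)) := inferInstanceAs (IsProper (r ≫ e.hom))
    haveI : IsProper (Y ↘ Spec (CommRingCat.of A)) := inferInstanceAs (IsProper ((b ≫ r) ≫ e.hom))
    have hiso : ∀ {W : Scheme.{u}} (f : W ⟶ X) (V : X.Opens), (V : Set X).Nonempty → IsIso (f ∣_ V) →
        ∃ U : (Spec (CommRingCat.of A)).Opens, (U : Set (Spec (CommRingCat.of A))).Nonempty ∧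
          IsIso ((f ≫ e.hom) ∣_ U) := fun {W} f V ⟨v, hv⟩ hfV => by
      have hpre : e.hom ⁻¹ᵁ (e.inv ⁻¹ᵁ V) = V := by
        rw [← Scheme.Hom.comp_preimage, e.hom_inv_id, Scheme.Hom.id_preimage]
      haveI : IsIso (f ∣_ (e.hom ⁻¹ᵁ (e.inv ⁻¹ᵁ V))) := by rw [hpre]; exact hfV
      refine ⟨e.inv ⁻¹ᵁ V, ⟨e.hom v, show v ∈ e.hom ⁻¹ᵁ (e.inv ⁻¹ᵁ V) by rwa [hpre]⟩, ?_⟩
      rw [morphismRestrict_comp]
      infer_instance
    obtain ⟨-, -, y, hy, -, -, hdimy, hbl⟩ := hb
    have hne : genericPoint Z ≠ y := fun h => by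
      have h0 : ringKrullDim Z.functionField = 0 := ringKrullDim_eq_zero_of_field _
      have h2 : ∀ p : Z, p = y → ringKrullDim (Z.presheaf.stalk p) = 2 := fun p hp => hp ▸ hdimy
      exact absurd ((h2 _ h).symm.trans h0) (by norm_num)
    obtain ⟨d, hd, hG⟩ := exists_hasGood_point hZr y hy hne
    haveI : IsProper b := ResolveX.isProper_point y hy hbl
    obtain ⟨-, -, -, hlen⟩ := S7338.result A hdim Z Y (hiso r V hV hZV) (hiso (b ≫ r) V' hV' hYV)
      (ResolveX.Ded.isNormalScheme_of_regular hZr) b (Category.assoc b r e.hom).symm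
    haveI : Subsingleton (Coh.HH Z ((Coh.Rpush b 1).obj (Coh.structureModule Y)) 0) :=
      (Sheaf.H.equiv₀ (Coh.toAb ((Coh.Rpush b 1).obj (Coh.structureModule Y))) isTerminalTop).toEquiv.subsingleton_congr.2
        ⟨fun s t => section_ext (G := (Coh.Rpush b 1).obj (Coh.structureModule Y)) fun z =>
          (isZero_Rpush_of_hasGood hG hbl hd 0 z).elim _ _⟩
    rw [← Module.length_eq_zero_iff (R := A), hlen, Module.length_eq_zero_iff.2 h1,
      Module.length_eq_zero_iff.2 ‹_›, add_zero]
where
  section_ext {Z : Scheme.{u}} {G : Z.Modules} {s t : Γ(G, ⊤)}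
      (h : ∀ z, G.presheaf.germ ⊤ z trivial s = G.presheaf.germ ⊤ z trivial t) : s = t :=
    TopCat.Presheaf.section_ext ⟨G.presheaf, G.isSheaf⟩ ⊤ s t fun z _ => h z

/-- A regular local ring of dimension two defines a rational singularity. -/
theorem isRationalSing (hdim : ringKrullDim A = 2) : Curv2.IsRationalSing A := by
  intro X f hf hXi hXn ⟨U, hU, hiso⟩
  haveI := RegLoc6.isDomain_of_isRegularLocalRing A
  haveI : UniqueFactorizationMonoid A := (S2821.result A).2
  haveI := hf; haveI := hXi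
  haveI : IsNoetherian (Spec (CommRingCat.of A)) := inferInstance
  have hd : topologicalKrullDim ↥(Spec (CommRingCat.of A)) ≤ 2 :=
    le_of_eq (by rw [← hdim]; exact PrimeSpectrum.topologicalKrullDim_eq_ringKrullDim A)
  obtain ⟨X', g, h, hg, hhf⟩ := ResolveX.exists_dominate (isRegular_stalk_spec (A := A)) hd f U hU hiso
  obtain ⟨hi, hn, -, hp, V, hV, hgV⟩ := ResolveX.contractionSeq_props hg (isRegular_stalk_spec (A := A))
  haveI := hi; haveI := hp; haveI := hn
  haveI h1 := subsingleton_H1_of_contractionSeq hdim hg (Iso.refl _)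
  letI : X.Over (Spec (CommRingCat.of A)) := ⟨f⟩
  letI : X'.Over (Spec (CommRingCat.of A)) := ⟨g⟩
  haveI : IsProper (X ↘ Spec (CommRingCat.of A)) := hf
  haveI : IsProper (X' ↘ Spec (CommRingCat.of A)) := hp
  obtain ⟨-, -, -, hlen⟩ := S7338.result A hdim X X' ⟨U, hU, hiso⟩ ⟨V, hV, hgV⟩ hXn h hhf
  rw [Module.length_eq_zero_iff.2 h1] at hlen
  exact Module.length_eq_zero_iff.1 (eq_bot_iff.2 (le_self_add.trans hlen.symm.le))

end Groth.Agent.RatReg
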